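import Cfsg.Agent.Gol.Conj

set_option autoImplicit false
set_option maxRecDepth 100000
set_option linter.all false

namespace Cfsg.Agent.Gol.O22
open Cfsg.Agent.CGT

def g_Ws : List (List ℕ) := [[8, 6, 2, 10, 8, 6, 2, 0, 4], [8, 0, 8, 1, 6, 1, 4], [8, 2, 8, 6, 4, 10, 2, 4, 1], [1, 8, 6, 1, 8, 6, 1, 4], [2, 6, 8, 6, 2, 8, 1, 6, 1], [4, 6, 2, 8, 2, 0, 6, 1, 2, 4], [2, 1, 2, 6, 1, 2, 1], [1, 6, 2, 1, 4], [2, 6, 4, 0, 2, 1], [1, 4, 1], [1, 4, 1], [4, 0], [2, 1], [0], [0], [2], [4], [6], [8], [10]]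
theorem g_s0 : slpB 5 m22_ts (chainBase [] m22_ls) g_Ws [[1, 2, 5, 1, 4, 2, 5, 4], [1, 1, 0, 2, 3, 0, 4, 4], [1, 5, 1, 0, 0, 1, 0, 0, 5], [7, 7, 6, 8, 9, 6, 10, 7], [6, 10, 11, 8, 9, 9, 11, 9, 8], [7, 11, 8, 9, 6, 6, 10], [16, 16, 17, 16, 12], [15, 16, 14, 13, 15, 16, 17, 13, 14, 17], [14, 13, 12, 16, 17, 13, 16, 14], [16, 13, 16], [18, 20, 20, 21, 18, 19, 23], [26], [24, 26], [22, 27], [16, 14, 17, 26], [6, 10, 16, 15, 12, 23, 24, 19, 27], [3, 0, 10, 10, 6, 15, 17, 14, 24, 22, 27]] 3 20 = true := by decide +kernel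
theorem g_top {G : Type*} [Group G] {φ : G →* Equiv.Perm ℕ} {γ : ℕ → G}
    (C : Cert φ γ 5 m22_ns m22_ts [0, 2, 4, 6, 8, 10] m22_ls) : gw γ (g_Ws.take 3) = ⊤ := by
  have h0 : SlpTo γ (gw γ (g_Ws.take 3)) g_Ws 3 := fun i hi =>
    ev_mem_gw γ (by interval_cases i <;> decide +kernel)
  rw [eq_top_iff, ← C.gen]
  exact SlpTo.gp_le (SlpTo.step C.M C.base (by decide +kernel) h0 g_s0) (by decide +kernel)

end Cfsg.Agent.Gol.O22
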